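import Cfsg.Agent.Lib.SQF.Fx

set_option autoImplicit false

namespace H50.SQ

open Subgroup H50.RC

namespace A7

open Equiv Equiv.Perm

/-- the 7-cycle -/
def r7 : Perm (Fin 7) := finRotate 7

theorem r7_pow : ∀ k i : Fin 7, (r7 ^ (k : ℕ)) i = i + k := by decide

theorem r7_app : ∀ i : Fin 7, r7 i = i + 1 := by decide

theorem r7_sign : sign r7 = 1 := by decide

theorem r7_seven : r7 ^ 7 = 1 := by decide

theorem r7_ne : r7 ≠ 1 := by decide

/-- the reflection -/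
def ng : Perm (Fin 7) := swap 1 6 * swap 2 5 * swap 3 4

theorem ng_app : ∀ i : Fin 7, ng i = 6 * i := by decide

theorem ng_sign : sign ng = -1 := by decide

theorem aff {J : Perm (Fin 7)} {k : Fin 7} (h : J * r7 = r7 ^ (k : ℕ) * J) (i : Fin 7) :
    J i = J 0 + k * i := by
  have hs : ∀ i, J (i + 1) = J i + k := fun i => by
    have := congrArg (fun σ : Perm (Fin 7) => σ i) h
    simpa only [Perm.mul_apply, r7_app, r7_pow] using this
  have h1 : J 1 = J 0 + k := hs 0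
  have h2 : J 2 = J 1 + k := hs 1
  have h3 : J 3 = J 2 + k := hs 2
  have h4 : J 4 = J 3 + k := hs 3
  have h5 : J 5 = J 4 + k := hs 4
  have h6 : J 6 = J 5 + k := hs 5
  have e : ∀ c k : Fin 7, c = c + k * 0 ∧ c + k = c + k * 1 ∧ c + k + k = c + k * 2 ∧
      c + k + k + k = c + k * 3 ∧ c + k + k + k + k = c + k * 4 ∧
      c + k + k + k + k + k = c + k * 5 ∧ c + k + k + k + k + k + k = c + k * 6 := by decide
  obtain ⟨e0, e1, e2, e3, e4, e5, e6⟩ := e (J 0) k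
  rw [h1] at h2
  rw [h2] at h3
  rw [h3] at h4
  rw [h4] at h5
  rw [h5] at h6
  have hi : ∀ i : Fin 7, i = 0 ∨ i = 1 ∨ i = 2 ∨ i = 3 ∨ i = 4 ∨ i = 5 ∨ i = 6 := by decide
  rcases hi i with rfl | rfl | rfl | rfl | rfl | rfl | rfl
  exacts [e0, h1.trans e1, h2.trans e2, h3.trans e3, h4.trans e4, h5.trans e5, h6.trans e6]

theorem cen {J : Perm (Fin 7)} (h : J * r7 = r7 * J) : ∃ k : Fin 7, J = r7 ^ (k : ℕ) := by
  refine ⟨J 0, Equiv.ext fun i => ?_⟩
  rw [r7_pow, aff (k := 1) (by simpa using h) i]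
  have e : ∀ c i : Fin 7, c + 1 * i = i + c := by decide
  exact e _ _

theorem inv_norm {J : Perm (Fin 7)} {k : Fin 7} (h : J * r7 = r7 ^ (k : ℕ) * J) (h2 : J * J = 1)
    (hs : sign J = 1) : J = 1 := by
  have a := aff h
  have b : ∀ i, J (J i) = i := fun i => by rw [← Perm.mul_apply, h2, Perm.one_apply]
  have b0 := b 0
  have b1 := b 1
  rw [a (J 0)] at b0
  rw [a (J 1), a 1] at b1
  have e : ∀ c k : Fin 7, c + k * c = 0 → c + k * (c + k * 1) = 1 → (k = 1 ∧ c = 0) ∨ k = 6 := by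
    decide
  rcases e _ _ b0 b1 with ⟨rfl, c0⟩ | rfl
  · refine Equiv.ext fun i => ?_
    rw [a i, c0]
    have e : ∀ i : Fin 7, 0 + 1 * i = i := by decide
    exact e i
  · have e1 : J = r7 ^ (J 0 : ℕ) * ng := Equiv.ext fun i => by
      rw [Perm.mul_apply, r7_pow, ng_app, a i, add_comm]
    rw [e1, map_mul, map_pow, r7_sign, ng_sign] at hs
    simp at hs

theorem num {s k : ℕ} (hs : s.Prime) (h2 : s ≠ 2) (hd : s ^ k ∣ 2520) (hm : s ^ k % 7 = 1) :
    s ^ k = 1 := by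
  rcases k with _ | k
  · simp
  have h1 : s ∣ 2 ^ 3 * 3 ^ 2 * 5 * 7 := (dvd_pow_self s (Nat.succ_ne_zero k)).trans hd
  have h3 : s = 3 ∨ s = 5 ∨ s = 7 := by
    rcases (Nat.Prime.dvd_mul hs).1 h1 with h | h
    · rcases (Nat.Prime.dvd_mul hs).1 h with h | h
      · rcases (Nat.Prime.dvd_mul hs).1 h with h | h
        · exact absurd ((Nat.prime_dvd_prime_iff_eq hs Nat.prime_two).1 (hs.dvd_of_dvd_pow h)) h2
        · exact Or.inl ((Nat.prime_dvd_prime_iff_eq hs Nat.prime_three).1 (hs.dvd_of_dvd_pow h))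
      · exact Or.inr (Or.inl ((Nat.prime_dvd_prime_iff_eq hs Nat.prime_five).1 h))
    · exact Or.inr (Or.inr ((Nat.prime_dvd_prime_iff_eq hs (by norm_num)).1 h))
  have hk : k ≤ 1 := by
    by_contra hk
    have h4 : s ^ 3 ∣ 2520 := (pow_dvd_pow s (by omega)).trans hd
    rcases h3 with rfl | rfl | rfl <;> norm_num at h4
  interval_cases k <;> rcases h3 with rfl | rfl | rfl <;> omega

/-- the 7-cycle in the alternating group -/
def y7 : alternatingGroup (Fin 7) := ⟨r7, mem_alternatingGroup.2 r7_sign⟩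

theorem y7_seven : y7 ^ 7 = 1 := Subtype.ext r7_seven

theorem y7_ne : y7 ≠ 1 := fun e => r7_ne (congrArg Subtype.val e)

theorem card7 : Nat.card (alternatingGroup (Fin 7)) = 2520 := by
  rw [nat_card_alternatingGroup, Nat.card_fin]
  decide

theorem ycen {g : alternatingGroup (Fin 7)} (h : g * y7 = y7 * g) :
    ∃ k : Fin 7, g = y7 ^ (k : ℕ) := by
  obtain ⟨k, hk⟩ := cen (J := g.1) (congrArg Subtype.val h)
  exact ⟨k, Subtype.ext hk⟩

theorem gen {k : Fin 7} (h : y7 ^ (k : ℕ) ≠ 1) : ∃ m : ℕ, (y7 ^ (k : ℕ)) ^ m = y7 := by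
  have e : ∀ k : Fin 7, k = 0 ∨ ∃ m : Fin 7, ((k : ℕ) * m) % 7 = 1 := by decide
  rcases e k with rfl | ⟨m, hm⟩
  · exact absurd (pow_zero _) h
  · exact ⟨m, by rw [← pow_mul, pow_eq_pow_mod _ y7_seven, hm, pow_one]⟩

theorem exists_fix {N : Subgroup (alternatingGroup (Fin 7))} {s : ℕ} (hs : s.Prime) (h2 : s ≠ 2)
    (hN : N ≠ ⊥) (hy : y7 ∈ normalizer (N : Set (alternatingGroup (Fin 7))))
    (he : ∀ a ∈ N, a ^ s = 1) : ∃ n ∈ N, n ≠ 1 ∧ n * y7 = y7 * n := by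
  by_contra hc
  push Not at hc
  have : Fact s.Prime := ⟨hs⟩
  have : Fact (Nat.Prime 7) := ⟨by norm_num⟩
  have hp : IsPGroup s N := fun g => ⟨1, Subtype.ext (by simpa using he g g.2)⟩
  obtain ⟨k, hk⟩ := IsPGroup.iff_card.1 hp
  obtain ⟨σ, hσ⟩ : ∃ σ : MulAut N, σ = normalizerMonoidHom N ⟨y7, hy⟩ := ⟨_, rfl⟩
  have s7 : σ ^ 7 = 1 := by
    rw [hσ, ← map_pow, show (⟨y7, hy⟩ : normalizer (N : Set (alternatingGroup (Fin 7)))) ^ 7 = 1
      from Subtype.ext y7_seven, map_one]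
  have hP : IsPGroup 7 (zpowers σ) := by
    rintro ⟨_, m, rfl⟩
    refine ⟨1, Subtype.ext ?_⟩
    show (σ ^ m) ^ 7 ^ 1 = 1
    rw [pow_one, ← zpow_natCast, ← zpow_mul, mul_comm, zpow_mul, zpow_natCast, s7, one_zpow]
  have hm := hP.card_modEq_card_fixedPoints N
  have h1 : MulAction.fixedPoints (zpowers σ) N = {1} := by
    ext n
    rw [Set.mem_singleton_iff, MulAction.mem_fixedPoints]
    constructor
    · intro hn
      by_contra n1
      have e : σ n = n := hn ⟨σ, mem_zpowers σ⟩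
      rw [hσ] at e
      have e2 : y7 * n * y7⁻¹ = n := congrArg Subtype.val e
      exact hc n n.2 (fun e3 => n1 (Subtype.ext e3)) (mul_inv_eq_iff_eq_mul.1 e2).symm
    · rintro rfl τ
      exact map_one τ.1
  rw [h1, hk, Nat.card_unique] at hm
  have hd : s ^ k ∣ 2520 := by rw [← hk, ← card7]; exact card_subgroup_dvd_card N
  exact hN (card_eq_one.1 (hk.trans (num hs h2 hd hm)))

end A7

open A7 in
theorem ocn_a7 : OCN (alternatingGroup (Fin 7)) := by
  have ho : Odd (orderOf y7) := Odd.of_dvd_nat (by decide) (orderOf_dvd_of_pow_eq_one y7_seven)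
  refine ⟨y7, pp_of_pow (r := 7) (k := 1) (by norm_num) y7_seven, ho, fun ι hι hy hn => ?_⟩
  obtain ⟨j, j2, j1, hj⟩ := exists_inv_fix (by rw [card7]; decide) hι
  obtain ⟨N, s, hs, h2, hN, -, hH, hab, he⟩ := hn.exists_ab (mem_Fix.2 hy) ho y7_ne
  obtain ⟨n, nN, n1, hc⟩ := exists_fix hs h2 hN (hH (mem_Fix.2 hy)) he
  obtain ⟨k, rfl⟩ := ycen hc
  obtain ⟨m, hm⟩ := gen n1
  have yN : y7 ∈ N := hm ▸ pow_mem nN m
  have jN : j * y7 * j⁻¹ ∈ N := (mem_normalizer_iff.1 (hH (mem_Fix.2 hj)) y7).1 yN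
  obtain ⟨l, hl⟩ := ycen (hab _ jN _ yN)
  exact j1 (Subtype.ext (inv_norm (J := j.1) (k := l)
    (congrArg Subtype.val (mul_inv_eq_iff_eq_mul.1 hl)) (congrArg Subtype.val j2)
    (Equiv.Perm.mem_alternatingGroup.1 j.2)))

end H50.SQ
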