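import Cfsg.Agent.Lib.SQF.Fx

set_option autoImplicit false

namespace H50.SQ

open Subgroup H50.RC

open Matrix MatrixGroups

variable {F : Type*} [Field F] [Finite F]

namespace PSL1

omit [Finite F]

theorem mul_e (A B : SL(2, F)) (i j : Fin 2) :
    (A * B).1 i j = A.1 i 0 * B.1 0 j + A.1 i 1 * B.1 1 j := by
  show (A.1 * B.1) i j = _
  rw [mul_apply, Fin.sum_univ_two]

theorem inv_e (A : SL(2, F)) : A⁻¹.1 0 0 = A.1 1 1 ∧ A⁻¹.1 0 1 = -A.1 0 1 ∧ A⁻¹.1 1 0 = -A.1 1 0 ∧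
    A⁻¹.1 1 1 = A.1 0 0 := by
  have : A⁻¹.1 = adjugate A.1 := rfl
  rw [this, adjugate_fin_two]
  exact ⟨rfl, rfl, rfl, rfl⟩

theorem tv_e : (tv F).1 0 0 = 1 ∧ (tv F).1 0 1 = 1 ∧ (tv F).1 1 0 = 0 ∧ (tv F).1 1 1 = 1 :=
  ⟨rfl, rfl, rfl, rfl⟩

theorem cen {A : SL(2, F)} (h : A ∈ center SL(2, F)) : A = 1 ∨ A = -1 := by
  obtain ⟨r, hr, e⟩ := Matrix.SpecialLinearGroup.mem_center_iff.1 h
  rw [Fintype.card_fin, sq_eq_one_iff] at hr
  rcases hr with rfl | rfl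
  · exact Or.inl (Subtype.ext (by rw [← e]; simp))
  · exact Or.inr (Subtype.ext (by rw [← e, map_neg, map_one]; rfl))

theorem sgn {A B : SL(2, F)} (h : (A : PSL(2, F)) = B) : B = A ∨ B = -A := by
  rcases cen (QuotientGroup.eq.1 h) with e | e
  · exact Or.inl (inv_mul_eq_one.1 e).symm
  · exact Or.inr (by rw [inv_mul_eq_iff_eq_mul.1 e, mul_neg, mul_one])

theorem comm (h2 : (2 : F) ≠ 0) {A B : SL(2, F)} {s : ℕ} (hs : Odd s) (hA : (A : PSL(2, F)) ^ s = 1)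
    (h : (A : PSL(2, F)) * B = B * A) : A * B = B * A := by
  rcases sgn (A := A * B) (B := B * A) h with e | e
  · exact e.symm
  have c : A ^ s ∈ center SL(2, F) := (QuotientGroup.eq_one_iff _).1 hA
  have e1 : B * A * B⁻¹ = -A := by rw [e, neg_mul, mul_inv_cancel_right]
  have e2 : A ^ s * 1 = A ^ s * -1 := by
    rw [mul_neg, mul_one, ← hs.neg_pow, ← e1, conj_pow, mem_center_iff.1 c, mul_inv_cancel_right]
  have e3 : (1 : F) = -1 := congrArg (fun X : SL(2, F) => X.1 0 0) (mul_left_cancel e2)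
  exact absurd (by linear_combination e3) h2

theorem tv_pow (n : ℕ) : (tv F ^ n).1 = !![1, (n : F); 0, 1] := by
  induction n with
  | zero => simp [one_fin_two]
  | succ n ih =>
    rw [pow_succ]
    show (tv F ^ n).1 * !![1, 1; 0, 1] = _
    rw [ih]
    simp [add_comm]

theorem tri (h2 : (2 : F) ≠ 0) {A : SL(2, F)} (h : A * (tv F * A * (tv F)⁻¹) = tv F * A * (tv F)⁻¹ * A) :
    A.1 1 0 = 0 ∧ A.1 1 1 = A.1 0 0 := by
  have e1 := congrArg (fun X : SL(2, F) => X.1 1 0) h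
  have e2 := congrArg (fun X : SL(2, F) => X.1 0 1) h
  simp only [mul_e, inv_e, tv_e] at e1 e2
  have c : A.1 1 0 = 0 := by
    have : 2 * A.1 1 0 ^ 2 = 0 := by linear_combination e1
    simpa [h2] using this
  refine ⟨c, sub_eq_zero.1 (pow_eq_zero_iff two_ne_zero |>.1 ?_)⟩
  rw [c] at e2
  linear_combination -e2

end PSL1

open PSL1

theorem tv_order (h2 : (2 : F) ≠ 0) :
    PP (tv F : PSL(2, F)) ∧ Odd (orderOf (tv F : PSL(2, F))) ∧ (tv F : PSL(2, F)) ≠ 1 := by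
  obtain ⟨p, hp⟩ := CharP.exists F
  have pp := CharP.char_is_prime F p
  have e : (tv F : PSL(2, F)) ^ p = 1 := by
    have : tv F ^ p = 1 := Subtype.ext (by rw [tv_pow]; simp [one_fin_two])
    rw [← QuotientGroup.mk_pow, this, QuotientGroup.mk_one]
  refine ⟨pp_of_pow (k := 1) pp (by rw [pow_one, e]), (pp.odd_of_ne_two ?_).of_dvd_nat
    (orderOf_dvd_of_pow_eq_one e), fun h => ?_⟩
  · rintro rfl
    exact h2 (CharP.cast_eq_zero F 2)
  · rcases cen ((QuotientGroup.eq_one_iff _).1 h) with e | e <;>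
      simpa [tv] using congrFun (congrFun (congrArg Subtype.val e) 0) 1

theorem le_bor (h2 : (2 : F) ≠ 0) {H : Subgroup PSL(2, F)} (hH : Nil2 H)
    (yH : (tv F : PSL(2, F)) ∈ H) : ∀ g ∈ H, Bor g := by
  obtain ⟨N, s, hs, s2, hN, -, hn, hc, he⟩ := hH.exists_ab yH (tv_order h2).2.1 (tv_order h2).2.2
  have key : ∀ A : SL(2, F), (A : PSL(2, F)) ∈ N → A.1 1 0 = 0 ∧ A.1 1 1 = A.1 0 0 := fun A hA =>
    tri h2 (comm h2 (hs.odd_of_ne_two s2) (he _ hA) (hc _ hA _ ((mem_normalizer_iff.1 (hn yH) _).1 hA)))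
  obtain ⟨⟨n, hn'⟩, n1⟩ := ne_bot_iff_exists_ne_one.1 hN
  obtain ⟨A, rfl⟩ := QuotientGroup.mk_surjective n
  obtain ⟨c, d⟩ := key A hn'
  have b : A.1 0 1 ≠ 0 := fun b => n1 (Subtype.ext ((QuotientGroup.eq_one_iff _).2
    (Matrix.SpecialLinearGroup.mem_center_iff.2 ⟨A.1 0 0, by
      have := A.2
      rw [det_fin_two, c, d] at this
      rw [Fintype.card_fin]
      linear_combination this, by
      ext i j
      fin_cases i <;> fin_cases j <;> simp [b, c, d]⟩)))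
  intro g hg
  obtain ⟨B, rfl⟩ := QuotientGroup.mk_surjective g
  refine ⟨B, ?_, rfl⟩
  have e := (key (B * A * B⁻¹) ((mem_normalizer_iff.1 (hn hg) _).1 hn')).1
  simp only [mul_e, inv_e, c, d] at e
  have : A.1 0 1 * B.1 1 0 ^ 2 = 0 := by linear_combination -e
  simpa [b] using this

end H50.SQ
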