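import Cfsg.Agent.Lib.SQF.Fx

set_option autoImplicit false

namespace H50.SQ

open Subgroup H50.RC

open Matrix MatrixGroups

namespace PSLb

variable {F : Type*} [Field F]

theorem eq_iff {A B : SL(2, F)} :
    (A : PSL(2, F)) = (B : PSL(2, F)) ↔ ∃ r : F, r * r = 1 ∧ B.1 = r • A.1 := by
  rw [QuotientGroup.eq, Matrix.SpecialLinearGroup.mem_center_iff]
  constructor
  · rintro ⟨r, h1, h2⟩
    refine ⟨r, by simpa [sq] using h1, ?_⟩
    have h3 : B = A * (A⁻¹ * B) := by group
    have h4 : B.1 = A.1 * (A⁻¹ * B).1 := congrArg Subtype.val h3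
    rw [h4, ← h2]
    ext i j
    simp [mul_comm]
  · rintro ⟨r, h1, h2⟩
    refine ⟨r, by simpa [sq] using h1, ?_⟩
    have h3 : (A⁻¹ * B).1 = (A⁻¹).1 * B.1 := rfl
    have h4 : (A⁻¹).1 * A.1 = 1 := congrArg Subtype.val (inv_mul_cancel A)
    change _ = (A⁻¹ * B).1
    rw [h3, h2, Matrix.mul_smul, h4]
    ext i j
    simp [Matrix.one_apply, Matrix.diagonal_apply]

/-- a matrix of determinant one from its entries -/
def mm (a b c d : F) (h : a * d - b * c = 1) : SL(2, F) := ⟨!![a, b; c, d], by simp [det_fin_two, h]⟩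

theorem exists_mk (A : SL(2, F)) : ∃ a b c d h, A = mm a b c d h := by
  have h := A.2
  rw [det_fin_two] at h
  exact ⟨A.1 0 0, A.1 0 1, A.1 1 0, A.1 1 1, h, Subtype.ext (eta_fin_two A.1)⟩

theorem mk_mul {a b c d a' b' c' d' : F} (h : a * d - b * c = 1) (h' : a' * d' - b' * c' = 1) :
    mm a b c d h * mm a' b' c' d' h' =
      mm (a * a' + b * c') (a * b' + b * d') (c * a' + d * c') (c * b' + d * d')
        (by linear_combination (a' * d' - b' * c') * h + h') :=
  Subtype.ext (by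
    change (!![a, b; c, d] : Matrix _ _ F) * !![a', b'; c', d'] = _
    simp [mm])

theorem mk_eq {a b c d a' b' c' d' : F} {h : a * d - b * c = 1} {h' : a' * d' - b' * c' = 1} :
    (mm a b c d h : PSL(2, F)) = (mm a' b' c' d' h' : PSL(2, F)) ↔
      ∃ r : F, r * r = 1 ∧ a' = r * a ∧ b' = r * b ∧ c' = r * c ∧ d' = r * d := by
  rw [eq_iff]
  refine exists_congr fun r => and_congr_right fun _ => ?_
  simp only [mm]
  constructor
  · intro e
    exact ⟨by simpa using congrFun (congrFun e 0) 0, by simpa using congrFun (congrFun e 0) 1,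
      by simpa using congrFun (congrFun e 1) 0, by simpa using congrFun (congrFun e 1) 1⟩
  · rintro ⟨rfl, rfl, rfl, rfl⟩
    simp

theorem one_eq : (1 : PSL(2, F)) = (mm (1 : F) 0 0 1 (by simp) : PSL(2, F)) := by
  have : mm (1 : F) 0 0 1 (by simp) = 1 := Subtype.ext (by simp [mm, one_fin_two])
  rw [this]; rfl

theorem tv_eq : tv F = mm (1 : F) 1 0 1 (by simp) := rfl

theorem pm {a b c d a' b' c' d' : F} (h : a * d - b * c = 1) (h' : a' * d' - b' * c' = 1) :
    (mm a b c d h : PSL(2, F)) * (mm a' b' c' d' h' : PSL(2, F)) =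
      (mm (a * a' + b * c') (a * b' + b * d') (c * a' + d * c') (c * b' + d * d')
        (by linear_combination (a' * d' - b' * c') * h + h') : SL(2, F)) := by
  rw [← QuotientGroup.mk_mul, mk_mul]

theorem bor_iff {a b c d : F} {h : a * d - b * c = 1} : Bor (mm a b c d h : PSL(2, F)) ↔ c = 0 := by
  constructor
  · rintro ⟨A, h1, h2⟩
    obtain ⟨a', b', c', d', h', rfl⟩ := exists_mk A
    obtain ⟨r, -, -, -, e, -⟩ := mk_eq.1 h2.symm
    have : c' = 0 := by simpa [mm] using h1
    rw [e, this, mul_zero]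
  · intro e
    exact ⟨_, by simp [mm, e], rfl⟩

theorem low_pow (c : F) (n : ℕ) :
    mm 1 0 c 1 (by simp) ^ n = mm 1 0 (n * c) 1 (by simp) := by
  induction n with
  | zero => rw [pow_zero]; exact Subtype.ext (by simp [mm, one_fin_two])
  | succ n ih =>
    rw [pow_succ, ih, mk_mul]
    congr 1 <;> push_cast <;> ring

/-- an element whose order divides the characteristic has a lift of trace two -/
theorem trace_two {p : ℕ} [Fact p.Prime] [CharP F p] (hp : Odd p) {g : PSL(2, F)} (hg : g ^ p = 1) :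
    ∃ a b c d h, g = (mm a b c d h : SL(2, F)) ∧ a + d = 2 := by
  obtain ⟨A, rfl⟩ := QuotientGroup.mk_surjective g
  obtain ⟨a, b, c, d, h, rfl⟩ := exists_mk A
  rw [← QuotientGroup.mk_pow, ← QuotientGroup.mk_one, eq_iff] at hg
  obtain ⟨r, r2, hr⟩ := hg
  have rp : r ^ p = r := by
    obtain ⟨k, rfl⟩ := hp
    rw [pow_succ, pow_mul, sq, r2, one_pow, one_mul]
  refine ⟨r * a, r * b, r * c, r * d, by linear_combination (a * d - b * c) * r2 + h,
    mk_eq.2 ⟨r, r2, rfl, rfl, rfl, rfl⟩, ?_⟩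
  set M : Matrix (Fin 2) (Fin 2) F := r • (mm a b c d h).1 with hM
  have h1 : M ^ p = 1 := by
    rw [hM, smul_pow, rp]
    exact hr.symm
  have h2 : IsNilpotent (M - 1) :=
    ⟨p, by rw [sub_pow_char_of_commute p (Commute.one_right M), h1, one_pow, sub_self]⟩
  have h3 := (Matrix.isNilpotent_trace_of_isNilpotent h2).eq_zero
  rw [hM, trace_fin_two] at h3
  simp [mm] at h3
  linear_combination h3

theorem core [Finite F] (h2 : (2 : F) ≠ 0) {ι : MulAut PSL(2, F)} (hι : ι * ι = 1)
    (hy : ι (tv F : PSL(2, F)) = (tv F : PSL(2, F))) (hB : ∀ g, ι g = g → Bor g) {i : F}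
    (hi : i * -i - 0 * 0 = 1) (hD : ι (mm i 0 0 (-i) hi : SL(2, F)) = (mm i 0 0 (-i) hi : SL(2, F))) :
    False := by
  obtain ⟨p, hp⟩ := CharP.exists F
  have pp : Fact p.Prime := ⟨CharP.char_is_prime F p⟩
  have po : Odd p := pp.out.odd_of_ne_two (by
    rintro rfl
    exact h2 (by simpa using CharP.cast_eq_zero F 2))
  have ii : ∀ g, ι (ι g) = g := fun g => by rw [← MulAut.mul_apply, hι, MulAut.one_apply]
  have i0 : i ≠ 0 := by
    rintro rfl
    simp at hi
  set u : PSL(2, F) := ((mm (1 : F) 0 (-2) 1 (by simp) : SL(2, F)) : PSL(2, F)) with hu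
  have up : u ^ p = 1 := by
    rw [hu, ← QuotientGroup.mk_pow, low_pow, one_eq, mk_eq]
    exact ⟨1, by simp, by simp, by simp, by simp, by simp⟩
  obtain ⟨a, b, c, d, h, hA, tr⟩ := trace_two po (g := ι u) (by rw [← map_pow, up, map_one])
  have e1 : u * ((mm i 0 0 (-i) hi : SL(2, F)) : PSL(2, F)) * u = (mm i 0 0 (-i) hi : SL(2, F)) := by
    rw [hu, pm, pm, mk_eq]
    exact ⟨1, by simp, by ring, by ring, by ring, by ring⟩
  have e2 := congrArg ι e1
  rw [map_mul, map_mul, hD, hA, pm, pm, mk_eq] at e2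
  obtain ⟨r, r2, k1, k2, k3, k4⟩ := e2
  have r0 : r ≠ 0 := by
    rintro rfl
    simp at r2
  have hb : b * (a - d) = 0 := by
    have : r * i * (b * (a - d)) = 0 := by linear_combination -k2
    exact (mul_eq_zero.1 this).resolve_left (mul_ne_zero r0 i0)
  have hc : c * (a - d) = 0 := by
    have : r * i * (c * (a - d)) = 0 := by linear_combination -k3
    exact (mul_eq_zero.1 this).resolve_left (mul_ne_zero r0 i0)
  have had : a = d := by
    have : r * i * ((a - d) * 2) = 0 := by
      rw [← tr]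
      linear_combination -k1 - k4
    exact sub_eq_zero.1 ((mul_eq_zero.1 ((mul_eq_zero.1 this).resolve_left
      (mul_ne_zero r0 i0))).resolve_right h2)
  have ha : a = 1 := by
    have : 2 * (a - 1) = 0 := by linear_combination tr + had
    exact sub_eq_zero.1 ((mul_eq_zero.1 this).resolve_left h2)
  subst had
  subst ha
  have bc : b * c = 0 := by linear_combination -h
  rcases mul_eq_zero.1 bc with rfl | rfl
  · have c1 : u * ι u = ι u * u := by
      rw [hA, hu, pm, pm, mk_eq]
      exact ⟨1, by simp, by ring, by ring, by ring, by ring⟩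
    have c2 := hB (u * ι u) (by rw [map_mul, ii, c1])
    rw [hA, hu, pm, bor_iff] at c2
    have c3 : (tv F : PSL(2, F)) * u * ((tv F : PSL(2, F)) * u) = 1 := by
      rw [hu, tv_eq, pm, pm, one_eq, mk_eq]
      exact ⟨-1, by simp, by ring, by ring, by ring, by ring⟩
    have c4 := congrArg ι c3
    rw [map_mul, map_mul, hy, hA, map_one, tv_eq, pm, pm, one_eq, mk_eq] at c4
    obtain ⟨s, s2, -, l2, -, -⟩ := c4
    have : s * (2 * 2) = 0 := by linear_combination -l2 - s * c2
    rcases mul_eq_zero.1 this with e | e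
    · rw [e] at s2
      simp at s2
    · exact h2 (mul_self_eq_zero.1 e)
  · have c1 : ι u * (tv F : PSL(2, F)) = (tv F : PSL(2, F)) * ι u := by
      rw [hA, tv_eq, pm, pm, mk_eq]
      exact ⟨1, by simp, by ring, by ring, by ring, by ring⟩
    have c2 := congrArg ι c1
    rw [map_mul, map_mul, ii, hy, hu, tv_eq, pm, pm, mk_eq] at c2
    obtain ⟨s, -, l1, l2, -, -⟩ := c2
    exact h2 (by linear_combination l2 - l1)

end PSLb

open PSLb

variable {F : Type*} [Field F] [Finite F]

theorem not_bor (h2 : (2 : F) ≠ 0) {ι : MulAut PSL(2, F)} (hι : ι * ι = 1)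
    (hy : ι (tv F : PSL(2, F)) = (tv F : PSL(2, F))) (hB : ∀ g, ι g = g → Bor g) : False := by
  have he : Even (Nat.card PSL(2, F)) := by
    set w : PSL(2, F) := ((mm (0 : F) 1 (-1) 0 (by simp) : SL(2, F)) : PSL(2, F)) with hw
    have h1 : w ^ 2 = 1 := by
      rw [sq, hw, pm, one_eq, mk_eq]
      exact ⟨-1, by simp, by ring, by ring, by ring, by ring⟩
    have h3 : w ≠ 1 := by
      rw [hw, one_eq, Ne, mk_eq]
      rintro ⟨r, -, e, -⟩
      simp at e
    have h4 := _root_.orderOf_dvd_natCard w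
    rw [orderOf_eq_prime h1 h3] at h4
    exact even_iff_two_dvd.2 h4
  obtain ⟨j, j2, j1, hj⟩ := exists_inv_fix he hι
  obtain ⟨J, hJ, rfl⟩ := hB j hj
  obtain ⟨a, b, c, d, h, rfl⟩ := exists_mk J
  obtain rfl : c = 0 := by simpa [mm] using hJ
  rw [pm, one_eq, mk_eq] at j2
  obtain ⟨r, r2, k1, k2, -, k4⟩ := j2
  have r0 : r ≠ 0 := by
    rintro rfl
    simp at r2
  have had : d = -a := by
    by_contra hne
    have h3 : a + d ≠ 0 := fun e => hne (by linear_combination e)
    have hb : b = 0 := by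
      have : r * (b * (a + d)) = 0 := by linear_combination -k2
      exact (mul_eq_zero.1 ((mul_eq_zero.1 this).resolve_left r0)).resolve_right h3
    have h4 : a = d := by
      have : r * ((a - d) * (a + d)) = 0 := by linear_combination k4 - k1
      exact sub_eq_zero.1 ((mul_eq_zero.1 ((mul_eq_zero.1 this).resolve_left r0)).resolve_right h3)
    subst hb
    subst h4
    refine j1 ?_
    rw [one_eq, mk_eq]
    exact ⟨a, by linear_combination h, by linear_combination -h, by ring, by ring,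
      by linear_combination -h⟩
  subst had
  have a0 : a ≠ 0 := by
    rintro rfl
    simp at h
  obtain ⟨γ, hγ⟩ : ∃ γ : F, 2 * a * γ = b := ⟨b / (2 * a), by field_simp⟩
  set v : PSL(2, F) := ((mm (1 : F) γ 0 1 (by simp) : SL(2, F)) : PSL(2, F)) with hv
  have vt : v * (tv F : PSL(2, F)) = (tv F : PSL(2, F)) * v := by
    rw [hv, tv_eq, pm, pm, mk_eq]
    exact ⟨1, by simp, by ring, by ring, by ring, by ring⟩
  have hi : a * -a - 0 * 0 = 1 := by linear_combination h
  have vj : v * ((mm a b 0 (-a) h : SL(2, F)) : PSL(2, F)) = (mm a 0 0 (-a) hi : SL(2, F)) * v := by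
    rw [hv, pm, pm, mk_eq]
    exact ⟨1, by simp, by ring, by linear_combination hγ, by ring, by ring⟩
  have ap : ∀ g, (MulAut.conj v * ι * (MulAut.conj v)⁻¹) g = v * ι (v⁻¹ * g * v) * v⁻¹ := fun g => by
    simp
  refine core h2 (ι := MulAut.conj v * ι * (MulAut.conj v)⁻¹) (by rw [conj_mul, hι]; group) ?_ ?_ hi ?_
  · rw [ap, mul_assoc v⁻¹, ← vt, inv_mul_cancel_left, hy, vt, mul_inv_cancel_right]
  · intro g hg
    have h3 : ι (v⁻¹ * g * v) = v⁻¹ * g * v := by
      rw [ap] at hg
      rw [← hg, hg]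
      calc ι (v⁻¹ * g * v) = v⁻¹ * (v * ι (v⁻¹ * g * v) * v⁻¹) * v := by group
        _ = _ := by rw [hg]
    obtain ⟨A, hA, e⟩ := hB _ h3
    obtain ⟨a', b', c', d', h', rfl⟩ := exists_mk A
    obtain rfl : c' = 0 := by simpa [mm] using hA
    have h4 : g = v * ((mm a' b' 0 d' h' : SL(2, F)) : PSL(2, F)) *
        ((mm (1 : F) (-γ) 0 1 (by simp) : SL(2, F)) : PSL(2, F)) := by
      have h5 : v * ((mm (1 : F) (-γ) 0 1 (by simp) : SL(2, F)) : PSL(2, F)) = 1 := by
        rw [hv, pm, one_eq, mk_eq]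
        exact ⟨1, by simp, by ring, by ring, by ring, by ring⟩
      rw [← e, ← inv_eq_of_mul_eq_one_right h5]
      group
    rw [h4, hv, pm, pm, bor_iff]
    ring
  · rw [ap, mul_assoc v⁻¹, ← vj, inv_mul_cancel_left, hj, vj, mul_inv_cancel_right]

end H50.SQ
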