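import Cfsg.Agent.Lib.SQF.Defs
import Cfsg.Agent.S0205
import Cfsg.Agent.Lib.Core.MinNormal

set_option autoImplicit false

namespace H50.SQ

open Subgroup H50.RC

variable {L : Type*} [Group L] [Finite L]

theorem exists_inv_fix (he : Even (Nat.card L)) {ι : MulAut L} (hι : ι * ι = 1) :
    ∃ j : L, j * j = 1 ∧ j ≠ 1 ∧ ι j = j := by
  classical
  have := Fintype.ofFinite L
  have := Fact.mk Nat.prime_two
  have k := Equiv.Perm.card_fixedPoints_modEq (p := 2) (n := 1) (f := (ι : L → L)) (by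
    funext x
    exact congrArg (fun φ : MulAut L => φ x) hι)
  have k2 : 2 ∣ Nat.card (Fix ι) := by
    rw [← Nat.card_eq_fintype_card, ← Nat.card_eq_fintype_card] at k
    exact (Nat.modEq_zero_iff_dvd.1 (k.symm.trans (Nat.modEq_zero_iff_dvd.2 he.two_dvd)))
  obtain ⟨j, hj⟩ := exists_prime_orderOf_dvd_card' 2 k2
  obtain ⟨h1, h2⟩ := orderOf_eq_prime_iff.1 hj
  exact ⟨j, by rw [← sq]; exact congrArg Subtype.val h1, fun e => h2 (Subtype.ext e), j.2⟩

theorem Nil2.exists_ab {H : Subgroup L} (h : Nil2 H) {y : L} (yH : y ∈ H) (hy : Odd (orderOf y))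
    (y1 : y ≠ 1) : ∃ (N : Subgroup L) (s : ℕ), s.Prime ∧ s ≠ 2 ∧ N ≠ ⊥ ∧ N ≤ H ∧
      H ≤ normalizer (N : Set L) ∧ (∀ a ∈ N, ∀ b ∈ N, a * b = b * a) ∧ ∀ a ∈ N, a ^ s = 1 := by
  obtain ⟨O, OH, HO, hO, hm⟩ := h
  have := normal_subgroupOf_of_le_normalizer HO
  have c : Nat.card (O.subgroupOf H) = Nat.card O := Nat.card_congr (subgroupOfEquivOfLe OH).toEquiv
  obtain ⟨N, hN, hle⟩ := H3.exists_isMinNormal_le (O.subgroupOf H) fun e => by
    have : (⟨y, yH⟩ : H) ∈ O.subgroupOf H := hm y yH hy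
    rw [e, mem_bot] at this
    exact y1 (congrArg Subtype.val this)
  have oN : Odd (Nat.card N) := (c ▸ hO).of_dvd_nat (card_dvd_of_le hle)
  obtain ⟨cm, s, hs, hd, hp, -⟩ := hN.elementary (Cfsg.Agent.S0205.result oN)
  have nN := hN.normal
  refine ⟨N.map H.subtype, s, hs, ?_, ?_, map_subtype_le _, ?_, ?_, ?_⟩
  · rintro rfl
    exact (Nat.not_even_iff_odd.2 oN) (even_iff_two_dvd.2 hd)
  · rw [Ne, map_eq_bot_iff_of_injective _ H.subtype_injective]
    exact hN.ne_bot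
  · exact (normal_subgroupOf_iff_le_normalizer (map_subtype_le _)).1
      (by rwa [subgroupOf, comap_map_eq_self_of_injective H.subtype_injective])
  · rintro _ ⟨a, ha, rfl⟩ _ ⟨b, hb, rfl⟩
    exact congrArg (fun x : N => ((x : H) : L)) (mul_comm' (⟨a, ha⟩ : N) ⟨b, hb⟩)
  · rintro _ ⟨a, ha, rfl⟩
    exact congrArg Subtype.val (hp a ha)

theorem OCN.of_equiv {K : Type*} [Group K] (e : L ≃* K) (h : OCN K) : OCN L := by
  obtain ⟨y, ⟨r, k, hr, hk⟩, ho, hy⟩ := h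
  have oe : ∀ g : K, orderOf (e.symm g) = orderOf g := fun g => e.symm.orderOf_eq g
  refine ⟨e.symm y, ⟨r, k, hr, (oe y).trans hk⟩, (oe y).symm ▸ ho, fun ι h2 hf ⟨O, h1, h3, h4, h5⟩ => ?_⟩
  have fx : ∀ g : K, g ∈ Fix (MulAut.congr e ι) ↔ e.symm g ∈ Fix ι := fun g =>
    e.eq_symm_apply.symm
  refine hy (MulAut.congr e ι) (by rw [← map_mul, h2, map_one]) ((fx y).2 hf)
    ⟨O.comap e.symm.toMonoidHom, fun g hg => (fx g).2 (h1 hg), fun g hg => mem_normalizer_iff.2 fun a => ?_,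
      ?_, fun g hg o => h5 _ ((fx g).1 hg) ((oe g).symm ▸ o)⟩
  · have := mem_normalizer_iff.1 (h3 ((fx g).1 hg)) (e.symm a)
    rwa [← map_inv, ← map_mul, ← map_mul] at this
  · rwa [show O.comap e.symm.toMonoidHom = O.map e.toMonoidHom from (map_equiv_eq_comap_symm' e O).symm,
      card_map_of_injective e.injective]

end H50.SQ
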